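import Cfsg.Agent.H383.Mn.Rank
import Cfsg.Agent.H989.Fx.Ty
import Cfsg.Agent.H826.RgF.Glue
import Cfsg.Agent.H729.Rg.MinusN

/-!
# S3691, `PΩ⁻_18(2)`: an exact factorization with a factor containing `Ω⁻_16(2)` (helper383)
-/

set_option autoImplicit false
set_option linter.unusedSectionVars false

namespace Cfsg.Agent.H383.Mn

open Module QuadraticMap Cfsg Cfsg.Geo Cfsg.Agent.LieClassical.OrthCore Cfsg.Agent.LieClassical.OrthTrans
  Cfsg.Agent.H454.Reg Cfsg.Agent.H449.Reg Cfsg.Agent.H955 Cfsg.Agent.H954.TSing Cfsg.Agent.H884.El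
open Cfsg.Agent.H951 (fx cm mem_fx mem_cm)
open Cfsg.Agent.H111.Rg (rstr rstr_apply)
open Cfsg.Agent.H989.Fx (Dp zn rU card_O_step)

section gen

variable {F : Type} [Field F] [Finite F] {V : Type} [AddCommGroup V] [Module F V] [FiniteDimensional F V]
  {Q : QuadraticForm F V}

theorem fin_gl : Finite (V ≃ₗ[F] V) := by
  have hV : Finite V := Module.finite_of_finite F
  exact Finite.of_injective (fun g : V ≃ₗ[F] V => (g : V → V)) DFunLike.coe_injective

/-- odd parts of `|E Q|` and `|O Q|` -/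
theorem fac_E (hG : Good Q) {r : ℕ} (hr : r.Prime) (hr2 : r ≠ 2) :
    (Nat.card (E Q)).factorization r = (Nat.card (O Q)).factorization r := by
  have hfin : Finite (V ≃ₗ[F] V) := fin_gl
  have hrf : Fact r.Prime := ⟨hr⟩
  apply le_antisymm
  · exact (Nat.factorization_le_iff_dvd Nat.card_pos.ne' Nat.card_pos.ne').2 (Subgroup.card_dvd_of_le E_le_O) r
  · obtain ⟨P, hP⟩ := Sylow.exists_subgroup_card_pow_prime (G := O Q) r (n := (Nat.card (O Q)).factorization r)
      (Nat.ordProj_dvd _ _)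
    have h1 : P.map (O Q).subtype ≤ E Q := by
      rintro _ ⟨g, hg, rfl⟩
      have h2 : (⟨g, hg⟩ : P) ^ r ^ (Nat.card (O Q)).factorization r = 1 := by
        rw [← hP]; exact pow_card_eq_one'
      have h3 : (g : O Q) ^ r ^ (Nat.card (O Q)).factorization r = 1 := congrArg Subtype.val h2
      have h4 : ((g : O Q) : V ≃ₗ[F] V) ^ r ^ (Nat.card (O Q)).factorization r = 1 := congrArg Subtype.val h3
      exact H587.KB8.mem_E_of_odd hG g.2 (Odd.pow (hr.odd_of_ne_two hr2)) h4
    have h5 : r ^ (Nat.card (O Q)).factorization r ∣ Nat.card (E Q) := by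
      have h6 : Nat.card (P.map (O Q).subtype) = Nat.card P :=
        (Nat.card_congr (P.equivMapOfInjective _ (O Q).subtype_injective).toEquiv).symm
      rw [← hP, ← h6]
      exact Subgroup.card_dvd_of_le h1
    exact (hr.pow_dvd_iff_le_factorization Nat.card_pos.ne').1 h5

/-- vectors and hyperbolic pairs -/
theorem eq_one_of_pair {x y : V} (h : Hyp Q x y) {g : V ≃ₗ[F] V} (hx : g x = x) (hy : g y = y)
    (hD : ∀ v ∈ Dp Q x y, g v = v) : g = 1 := by
  apply LinearEquiv.ext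
  intro v
  have h1 : v - polar Q v y • x - polar Q v x • y ∈ Dp Q x y := by
    constructor
    · rw [polar_sub_right, polar_sub_right, polar_smul_right, polar_smul_right, h.pair, polar_self', h.left]
      simp [polar_comm Q x v]
    · rw [polar_sub_right, polar_sub_right, polar_smul_right, polar_smul_right, h.pair', polar_self', h.right]
      simp [polar_comm Q y v]
  have h2 := hD _ h1
  rw [map_sub, map_sub, map_smul, map_smul, hx, hy] at h2
  have h3 : g v = v := by
    have h4 := congrArg (fun w => w + polar Q v x • y + polar Q v y • x) h2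
    simp only [sub_add_cancel] at h4
    exact h4
  exact h3

/-- the stabiliser of a hyperbolic pair -/
def stp (Q : QuadraticForm F V) (x y : V) : Subgroup (V ≃ₗ[F] V) where
  carrier := {g | g ∈ E Q ∧ g x = x ∧ g y = y}
  mul_mem' := by
    rintro a b ⟨ha, ha1, ha2⟩ ⟨hb, hb1, hb2⟩
    refine ⟨(E Q).mul_mem ha hb, ?_, ?_⟩
    · change a (b x) = x
      rw [hb1, ha1]
    · change a (b y) = y
      rw [hb2, ha2]
  one_mem' := ⟨(E Q).one_mem, rfl, rfl⟩
  inv_mem' := by
    rintro a ⟨ha, ha1, ha2⟩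
    refine ⟨(E Q).inv_mem ha, ?_, ?_⟩
    · change a.symm x = x
      rw [LinearEquiv.symm_apply_eq, ha1]
    · change a.symm y = y
      rw [LinearEquiv.symm_apply_eq, ha2]

theorem mem_stp {x y : V} {g : V ≃ₗ[F] V} : g ∈ stp Q x y ↔ g ∈ E Q ∧ g x = x ∧ g y = y := Iff.rfl

theorem card_stp_dvd {x y : V} (h : Hyp Q x y) : Nat.card (stp Q x y) ∣ Nat.card (O (res Q (Dp Q x y))) := by
  have hfin : Finite (V ≃ₗ[F] V) := fin_gl
  have hfin' : Finite (Dp Q x y ≃ₗ[F] Dp Q x y) := fin_gl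
  have hinv : ∀ a ∈ stp Q x y, ∀ w ∈ Dp Q x y, a w ∈ Dp Q x y := by
    intro a ha w hw
    have hO : a ∈ O Q := E_le_O ha.1
    constructor
    · have := H826.RgF.polar_O hO x w
      rw [ha.2.1] at this
      rw [this]; exact hw.1
    · have := H826.RgF.polar_O hO y w
      rw [ha.2.2] at this
      rw [this]; exact hw.2
  have := Fintype.ofFinite F
  have hsO : stp Q x y ≤ O Q := fun a ha => E_le_O ha.1
  have hle : (rstr hinv).range ≤ O (res Q (Dp Q x y)) := H826.RgF.range_le_O hsO hinv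
  have hinj : Function.Injective (rstr hinv) := by
    rw [injective_iff_map_eq_one]
    intro a ha
    refine Subtype.ext (eq_one_of_pair h a.2.2.1 a.2.2.2 fun v hv => ?_)
    have h1 := congrArg (fun g : Dp Q x y ≃ₗ[F] Dp Q x y => ((g ⟨v, hv⟩ : Dp Q x y) : V)) ha
    exact h1
  have h2 : Nat.card (stp Q x y) = Nat.card (rstr hinv).range :=
    Nat.card_congr (MonoidHom.ofInjective hinj).toEquiv
  rw [h2]
  exact Subgroup.card_dvd_of_le hle

end gen

section two

variable {F : Type} [Field F] [Finite F] {V : Type} [AddCommGroup V] [Module F V] [FiniteDimensional F V]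
  {Q : QuadraticForm F V}

theorem eq_one_of_ne (hF : Nat.card F = 2) {c : F} (hc : c ≠ 0) : c = 1 := by
  classical
  have := Fintype.ofFinite F
  have h1 : Fintype.card F = 2 := by rw [← Nat.card_eq_fintype_card]; exact hF
  by_contra h
  have h2 : ({0, 1, c} : Finset F).card ≤ 2 := by
    rw [← h1]; exact Finset.card_le_univ _
  rw [Finset.card_insert_of_notMem (by simp [Ne.symm hc]), Finset.card_pair (Ne.symm h)] at h2
  omega

theorem two_eq_zero (hF : Nat.card F = 2) : (2 : F) = 0 := by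
  by_contra h
  have h1 := eq_one_of_ne hF h
  have h3 : (1 : F) + 1 = 1 := by rw [one_add_one_eq_two]; exact h1
  exact one_ne_zero (add_eq_right.1 h3)

/-- a group of odd order fixing `x` fixes a partner of `x` -/
theorem exists_partner (hF : Nat.card F = 2) {R : Subgroup (V ≃ₗ[F] V)} (hR : R ≤ O Q) (hodd : Odd (Nat.card R)) {x y : V}
    (h : Hyp Q x y) (hx : ∀ r ∈ R, r x = x) : ∃ y', Hyp Q x y' ∧ ∀ r ∈ R, r y' = y' := by
  classical
  have hfin : Finite (V ≃ₗ[F] V) := fin_gl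
  have := Fintype.ofFinite R
  have h2 := two_eq_zero hF
  let w : V := ∑ r : R, (r : V ≃ₗ[F] V) y
  have hw : ∀ r ∈ R, r w = w := by
    intro r hr
    rw [map_sum]
    exact Fintype.sum_equiv (Equiv.mulLeft (⟨r, hr⟩ : R)) _ _ fun s => rfl
  have hpol : polar Q x w = 1 := by
    have h3 : polar Q x w = ∑ r : R, polar Q x ((r : V ≃ₗ[F] V) y) := by
      change polarBilin Q x w = ∑ r : R, polarBilin Q x ((r : V ≃ₗ[F] V) y)
      rw [map_sum]
    have h4 : ∀ r : R, polar Q x ((r : V ≃ₗ[F] V) y) = 1 := by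
      intro r
      have h5 := H826.RgF.polar_O (hR r.2) x y
      rw [hx r r.2, h.pair] at h5
      exact h5
    rw [h3, Finset.sum_congr rfl (fun r _ => h4 r), Finset.sum_const, Finset.card_univ, ← Nat.card_eq_fintype_card, nsmul_eq_mul,
      mul_one]
    obtain ⟨k, hk⟩ := hodd
    rw [hk]
    push_cast
    rw [h2, zero_mul, zero_add]
  refine ⟨w - Q w • x, ⟨h.left, ?_, ?_⟩, ?_⟩
  · rw [sub_eq_add_neg, Q_add, QuadraticMap.map_neg, QuadraticMap.map_smul, h.left, smul_zero, add_zero, polar_neg_right,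
      polar_smul_right, polar_comm Q w x, hpol, smul_eq_mul, mul_one, add_neg_cancel]
  · rw [polar_sub_right, polar_smul_right, polar_self', h.left, hpol]
    simp
  · intro r hr
    rw [map_sub, map_smul, hw r hr, hx r hr]

theorem fac_num : (130815 : ℕ).factorization 3 = 4 := by
  have h1 : (130815 : ℕ) = 3 ^ 4 * 1615 := by norm_num
  have h2 : (1615 : ℕ).factorization 3 = 0 := Nat.factorization_eq_zero_of_not_dvd (by norm_num)
  rw [h1, Nat.factorization_mul (by norm_num) (by norm_num), Finsupp.add_apply, h2, Nat.Prime.factorization_pow Nat.prime_three,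
    Finsupp.single_eq_same]

/-- the `3`-part of `|O(Q)|` -/
theorem fac_O (hF : Nat.card F = 2) (hQ : Nondeg Q) (hn : finrank F V = 18) (hP : ¬ IsPlus Q) {x y : V} (h : Hyp Q x y) :
    (Nat.card (O Q)).factorization 3 = 4 + (Nat.card (O (res Q (Dp Q x y)))).factorization 3 := by
  have hfin : Finite (Dp Q x y ≃ₗ[F] Dp Q x y) := fin_gl
  have h1 := card_O_step hQ h (n := 16) hn
  have h2 : zn Q = 130816 := by
    have h3 := H729.Rg.card_zero hQ (m := 9) (by norm_num) hn hP
    rw [hF] at h3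
    rw [zn, h3]
    norm_num
  rw [h1, h2, hF, show 130816 - 1 = 130815 from rfl, Nat.factorization_mul (by norm_num) Nat.card_pos.ne',
    Nat.factorization_mul (by norm_num) (by norm_num), Finsupp.add_apply, Finsupp.add_apply, fac_num,
    Nat.factorization_eq_zero_of_not_dvd (show ¬ 3 ∣ 2 ^ 16 by norm_num), add_zero]

/-- a `3`-element of a subgroup is conjugate into a given Sylow subgroup -/
theorem conj_into {M R : Subgroup (V ≃ₗ[F] V)} (hRM : R ≤ M) (hR : IsPGroup 3 R)
    (hfac : (Nat.card M).factorization 3 ≤ (Nat.card R).factorization 3) {x : V ≃ₗ[F] V} (hx : x ∈ M) (hx3 : x ^ 3 = 1) :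
    ∃ m ∈ M, m * x * m⁻¹ ∈ R := by
  classical
  have hfin : Finite (V ≃ₗ[F] V) := fin_gl
  have hp3 : Fact (Nat.Prime 3) := ⟨Nat.prime_three⟩
  obtain ⟨k, hk⟩ := IsPGroup.iff_card.1 hR
  have hk' : (Nat.card R).factorization 3 = k := by
    rw [hk, Nat.Prime.factorization_pow Nat.prime_three, Finsupp.single_eq_same]
  have hcard : Nat.card (R.subgroupOf M) = 3 ^ (Nat.card M).factorization 3 := by
    have h1 : Nat.card (R.subgroupOf M) = Nat.card R := Nat.card_congr (Subgroup.subgroupOfEquivOfLe hRM).toEquiv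
    have h2 : (Nat.card R).factorization 3 ≤ (Nat.card M).factorization 3 :=
      (Nat.factorization_le_iff_dvd Nat.card_pos.ne' Nat.card_pos.ne').2 (Subgroup.card_dvd_of_le hRM) 3
    rw [h1, hk]
    congr 1
    omega
  let P : Sylow 3 M := Sylow.ofCard (R.subgroupOf M) hcard
  have hz : IsPGroup 3 (Subgroup.zpowers (⟨x, hx⟩ : M)) := by
    rw [IsPGroup.iff_card]
    rw [Nat.card_zpowers]
    have h1 : orderOf (⟨x, hx⟩ : M) ∣ 3 ^ 1 := by
      rw [pow_one]
      exact orderOf_dvd_of_pow_eq_one (Subtype.ext hx3)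
    obtain ⟨i, -, hi⟩ := (Nat.dvd_prime_pow Nat.prime_three).1 h1
    exact ⟨i, hi⟩
  obtain ⟨S, hS⟩ := hz.exists_le_sylow
  obtain ⟨m, hm⟩ := MulAction.exists_smul_eq M S P
  have h1 : m * ⟨x, hx⟩ * m⁻¹ ∈ (P : Subgroup M) := by
    rw [← hm]
    have h2 : (⟨x, hx⟩ : M) ∈ (S : Subgroup M) := hS (Subgroup.mem_zpowers _)
    exact Sylow.smul_def (g := m) (P := S) ▸ Subgroup.smul_mem_pointwise_smul _ _ _ h2
  exact ⟨m, m.2, h1⟩

/-- **no exact factorization of this shape** -/
theorem nine_abs (hF : Nat.card F = 2) (hG : Good Q) (hn : finrank F V = 18) (hP : ¬ IsPlus Q) {A B : Subgroup (V ≃ₗ[F] V)}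
    (hA : A ≤ E Q) (hB : B ≤ E Q)
    (hAB : ∀ x ∈ A, x ^ 3 = 1 → ∀ g ∈ E Q, g * x * g⁻¹ ∈ B → x = 1)
    (hcard : (Nat.card A).factorization 3 + (Nat.card B).factorization 3 = (Nat.card (E Q)).factorization 3)
    {x₀ y₀ : V} (hyp : Hyp Q x₀ y₀)
    (hB9 : (Nat.card (O (res Q (Dp Q x₀ y₀)))).factorization 3 ≤ (Nat.card B).factorization 3)
    (hfix : ∀ r ∈ B, (∃ k, r ^ 3 ^ k = 1) → r x₀ = x₀) : False := by
  classical
  have hfin : Finite (V ≃ₗ[F] V) := fin_gl
  have hp3 : Fact (Nat.Prime 3) := ⟨Nat.prime_three⟩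
  -- a Sylow subgroup of `B`
  obtain ⟨R₀, hR₀⟩ := Sylow.exists_subgroup_card_pow_prime (G := B) 3 (n := (Nat.card B).factorization 3) (Nat.ordProj_dvd _ _)
  set R : Subgroup (V ≃ₗ[F] V) := R₀.map B.subtype with hRdef
  have hRc : Nat.card R = 3 ^ (Nat.card B).factorization 3 := by
    rw [← hR₀]
    exact (Nat.card_congr (R₀.equivMapOfInjective _ B.subtype_injective).toEquiv).symm
  have hRp : IsPGroup 3 R := IsPGroup.of_card hRc
  have hRB : R ≤ B := by
    rintro _ ⟨g, -, rfl⟩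
    exact g.2
  have hRx : ∀ r ∈ R, r x₀ = x₀ := by
    intro r hr
    obtain ⟨k, hk⟩ := hRp ⟨r, hr⟩
    exact hfix r (hRB hr) ⟨k, congrArg Subtype.val hk⟩
  have hRodd : Odd (Nat.card R) := by rw [hRc]; exact Odd.pow (by decide)
  obtain ⟨y₁, hyp₁, hRy⟩ := exists_partner hF ((hRB.trans hB).trans E_le_O) hRodd hyp hRx
  -- the stabiliser
  have hRM : R ≤ stp Q x₀ y₁ := fun r hr => ⟨hB (hRB hr), hRx r hr, hRy r hr⟩
  have hM : (Nat.card (stp Q x₀ y₁)).factorization 3 ≤ (Nat.card (O (res Q (Dp Q x₀ y₁)))).factorization 3 := by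
    have hfin' : Finite (Dp Q x₀ y₁ ≃ₗ[F] Dp Q x₀ y₁) := fin_gl
    exact (Nat.factorization_le_iff_dvd Nat.card_pos.ne' Nat.card_pos.ne').2 (card_stp_dvd hyp₁) 3
  have h0 := fac_O hF hG.nondeg hn hP hyp
  have h1 := fac_O hF hG.nondeg hn hP hyp₁
  have hE := fac_E hG Nat.prime_three (by norm_num)
  have hRf : (Nat.card R).factorization 3 = (Nat.card B).factorization 3 := by
    rw [hRc, Nat.Prime.factorization_pow Nat.prime_three, Finsupp.single_eq_same]
  have hRle : (Nat.card R).factorization 3 ≤ (Nat.card (stp Q x₀ y₁)).factorization 3 :=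
    (Nat.factorization_le_iff_dvd Nat.card_pos.ne' Nat.card_pos.ne').2 (Subgroup.card_dvd_of_le hRM) 3
  refine rank_false hF hn A ((Nat.Prime.pow_dvd_iff_le_factorization Nat.prime_three Nat.card_pos.ne').2 (by omega)) ?_
  intro x hx hx3 hx1
  by_contra hcon
  push Not at hcon
  apply hx1
  -- a hyperbolic pair fixed by `x`
  have iF := Fintype.ofFinite F
  have h3 : PP (Nat.card F) 2 3 := by
    rw [hF]
    exact ⟨Nat.prime_three, orderOf_eq_prime (by decide) (by decide)⟩
  have hxO : x ∈ O Q := E_le_O (hA hx)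
  have hnd := H826.RgF.nondeg_fx' hG.nondeg h3 le_rfl hxO hx3
  obtain ⟨u, hu, hu0, hQu⟩ := LieClassical.OrthFinite.exists_sing_mem (Q := Q) (fx (x : Module.End F V)) hcon
  obtain ⟨w, hw⟩ := exists_hyp (x := (⟨u, hu⟩ : fx (x : Module.End F V))) hnd hQu (fun h => hu0 (congrArg Subtype.val h))
  have hyp' : Hyp Q u (w : V) := ⟨hw.left, hw.right, hw.pair⟩
  obtain ⟨g, hg, hgu, hgw⟩ := hG.trans_hyp hyp' hyp₁
  have hxu : x u = u := mem_fx.1 hu
  have hxw : x (w : V) = w := mem_fx.1 w.2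
  have hgi : ∀ {a b : V}, g a = b → g⁻¹ b = a := by
    intro a b h
    rw [← h]
    exact g.symm_apply_apply a
  have hmem : g * x * g⁻¹ ∈ stp Q x₀ y₁ := by
    refine ⟨(E Q).mul_mem ((E Q).mul_mem hg (hA hx)) ((E Q).inv_mem hg), ?_, ?_⟩
    · change g (x (g⁻¹ x₀)) = x₀
      rw [hgi hgu, hxu, hgu]
    · change g (x (g⁻¹ y₁)) = y₁
      rw [hgi hgw, hxw, hgw]
  have h4 : (g * x * g⁻¹) ^ 3 = 1 := by rw [conj_pow, hx3, mul_one, mul_inv_cancel]
  obtain ⟨m, hm, hmR⟩ := conj_into hRM hRp (by omega) hmem h4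
  refine hAB x hx hx3 (m * g) ((E Q).mul_mem hm.1 hg) (hRB ?_)
  have h5 : m * g * x * (m * g)⁻¹ = m * (g * x * g⁻¹) * m⁻¹ := by group
  rw [h5]
  exact hmR

end two

end Cfsg.Agent.H383.Mn
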