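import Cfsg.Agent.H383.Mn.NineAbs
import Cfsg.Agent.H964.Rg.Mx
import Cfsg.Agent.H964.Rg.Ctx
import Cfsg.Agent.H173.OI.Shape
import Cfsg.Agent.H934.OutB
import Cfsg.Agent.S2605

/-!
# S3691: `PΩ⁻_18(2)`, a factor which stabilises a singular point or a hyperbolic plane (helper383)
-/

set_option autoImplicit false
set_option linter.unusedSectionVars false

namespace Cfsg.Agent.H383.Mn

open Module QuadraticMap Cfsg Cfsg.Geo Cfsg.Agent.LieClassical.OrthCore Cfsg.Agent.LieClassical.OrthTrans
  Cfsg.Agent.H454.Reg Cfsg.Agent.H449.Reg Cfsg.Agent.H955 Cfsg.Agent.H954.TSing Cfsg.Agent.H884.El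
open Cfsg.Agent.H951 (fx cm mem_fx mem_cm)
open Cfsg.Agent.H989.Fx (Dp finrank_Dp)
open Cfsg.Agent.H826.Rg (preE mem_preE preE_le_E preE_le_O mem_preE_iff mem_preE_iff' card_preE)
open Cfsg.Agent.H826.RgF (sq_of_central fac_T' fac_preE' polar_O)
open Cfsg.Agent.H964.Rg (Cx Sec secG)
open Cfsg.Agent.LieClassical.OrthFinite (glEquiv glEquiv_apply)
open scoped MatrixGroups Matrix

universe u

variable {ι : Type} [Fintype ι] [DecidableEq ι] {F : Type} [Field F] [Fintype F] {Q : QuadraticForm F (ι → F)}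
variable {G : Type u} [Group G] [Finite G] {T : Subgroup G} [T.Normal] {hG : Good Q} {eT : T ≃* POmega F (⇑Q)}
  {hI : Ind (eP hG eT)} {X Y : Subgroup G}

/-- `|Out T| = 2` -/
theorem card_out_T (eT : T ≃* POmega F (⇑Q)) (hQ : Nondeg Q) (hF : Fintype.card F = 2) (hn : finrank F (ι → F) = 18)
    (hP : ¬ IsPlus Q) : Nat.card (Cfsg.Out T) = 2 := by
  obtain ⟨a, b, hab⟩ := exists_aniso_coeff F
  obtain ⟨e, he⟩ := exists_minus_equiv hab 8 Q hQ hn hP
  obtain ⟨e1⟩ : Nonempty (POmega F (⇑Q) ≃* POmega F (⇑(LieClassical.QuadForms.minusForm 8 F a b))) :=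
    H173.OI.pomega_similar one_ne_zero e (fun v => by rw [one_mul]; exact he v)
  have h1 := (Cfsg.Agent.S2605.result (F := F) (f := 1) (m := 9) le_rfl (by rw [hF]; norm_num) (by norm_num) a b hab).2
  rw [← LieClassical.QuadForms.coe_minusForm] at h1
  rw [H934.OutB.card_out_congr (eT.trans e1)]
  exact h1

theorem conj_trivial (hf : Fac T X Y) {x : (ι → F) ≃ₗ[F] (ι → F)} (hx : x ∈ preE (eP hG eT) X) (hx3 : x ^ 3 = 1)
    {g : (ι → F) ≃ₗ[F] (ι → F)} (hg : g ∈ E Q) (hy : g * x * g⁻¹ ∈ preE (eP hG eT) Y) : x = 1 := by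
  have hxE := preE_le_E hx
  have h1 := (mem_preE hxE).1 hx
  have h2 := (mem_preE (preE_le_E hy)).1 hy
  have h3 : (⟨g * x * g⁻¹, preE_le_E hy⟩ : ↥(E Q)) = ⟨g, hg⟩ * ⟨x, hxE⟩ * ⟨g, hg⟩⁻¹ := rfl
  rw [h3, QuotientGroup.mk_mul, QuotientGroup.mk_mul, QuotientGroup.mk_inv, map_mul, map_mul, map_inv] at h2
  have h4 := hf.not_conj h1 _ h2
  have h5 : (eP hG eT).symm (QuotientGroup.mk ⟨x, hxE⟩) = 1 := Subtype.ext h4
  rw [MulEquiv.map_eq_one_iff, QuotientGroup.eq_one_iff] at h5
  have h6 := sq_of_central hG hxE h5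
  have h7 : x = x ^ 3 * (x ^ 2)⁻¹ := by group
  rw [h7, hx3, h6, inv_one, mul_one]

section fixx

variable {V : Type} [AddCommGroup V] [Module F V] [FiniteDimensional F V]

theorem four {S : Submodule F V} (hS : Nat.card S ≤ 4) {x y : V} (hx : x ∈ S) (hy : y ∈ S) (h1 : x ≠ 0) (h2 : y ≠ 0)
    (h3 : y ≠ x) (h4 : x + y ≠ 0) {s : V} (hs : s ∈ S) : s = 0 ∨ s = x ∨ s = y ∨ s = x + y := by
  classical
  by_contra hcon
  push Not at hcon
  obtain ⟨a, b, c, d⟩ := hcon
  have hV : Finite V := Module.finite_of_finite F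
  have iS := Fintype.ofFinite S
  have h5 : ({0, x, y, x + y, s} : Finset V).card = 5 := by
    rw [Finset.card_insert_of_notMem, Finset.card_insert_of_notMem, Finset.card_insert_of_notMem,
      Finset.card_insert_of_notMem, Finset.card_singleton]
    · simpa using d.symm
    · simp only [Finset.mem_insert, Finset.mem_singleton, not_or]
      exact ⟨fun h => h1 (by simpa using h), c.symm⟩
    · simp only [Finset.mem_insert, Finset.mem_singleton, not_or]
      exact ⟨h3.symm, fun h => h2 (by simpa using h), b.symm⟩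
    · simp only [Finset.mem_insert, Finset.mem_singleton, not_or]
      exact ⟨h1.symm, h2.symm, h4.symm, a.symm⟩
  have h6 : ({0, x, y, x + y, s} : Finset V) ⊆ (Set.toFinset (S : Set V)) := by
    intro v hv
    rw [Set.mem_toFinset]
    simp only [Finset.mem_insert, Finset.mem_singleton] at hv
    rcases hv with rfl | rfl | rfl | rfl | rfl
    · exact S.zero_mem
    · exact hx
    · exact hy
    · exact S.add_mem hx hy
    · exact hs
  have h7 := Finset.card_le_card h6
  rw [h5, Set.toFinset_card] at h7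
  have h8 : Fintype.card (S : Set V) = Nat.card S := by rw [← Nat.card_eq_fintype_card]; rfl
  omega

theorem fix_x {Q : QuadraticForm F V} (hF : Nat.card F = 2) {S U R : Submodule F V} {x : V}
    (hx : Q x = 0) (hx0 : x ≠ 0) (hxS : x ∈ S) (hS2 : finrank F S ≤ 2) {r : V ≃ₗ[F] V}
    (hr : r ∈ O Q) (hrS : ∀ s ∈ S, r s ∈ S) {k : ℕ} (hk : r ^ 3 ^ k = 1) (hnd : Nondeg (res Q U))
    (horth : ∀ a ∈ R, ∀ u ∈ U, polar Q a u = 0) (hR : finrank F R ≤ 1) (hUR : U ⊔ R = perp Q S) : r x = x := by
  classical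
  by_contra hne
  have hV : Finite V := Module.finite_of_finite F
  have hcS : Nat.card S ≤ 4 := by
    rw [Module.natCard_eq_pow_finrank (K := F), hF]
    calc 2 ^ finrank F S ≤ 2 ^ 2 := Nat.pow_le_pow_right (by norm_num) hS2
      _ = 4 := by norm_num
  have hcR : Nat.card R ≤ 2 := by
    rw [Module.natCard_eq_pow_finrank (K := F), hF]
    calc 2 ^ finrank F R ≤ 2 ^ 1 := Nat.pow_le_pow_right (by norm_num) hR
      _ = 2 := by norm_num
  have h2 := two_eq_zero hF
  have hadd : ∀ v : V, v + v = 0 := fun v => by rw [← two_smul F v, h2, zero_smul]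
  have hy0 : r x ≠ 0 := fun h => hx0 (by rw [← r.map_zero] at h; exact r.injective h)
  have hxy : x + r x ≠ 0 := by
    intro h
    apply hne
    have h3 : x + r x = x + x := by rw [h, hadd]
    exact add_left_cancel h3
  rcases four hcS hxS (hrS x hxS) hx0 hy0 hne hxy (hrS _ (hrS x hxS)) with h | h | h | h
  · exact hy0 (by rw [← r.map_zero] at h; exact r.injective h)
  · -- `r ^ 2` fixes `x`
    have h3 : ∀ j : ℕ, (r ^ (2 * j)) x = x := by
      intro j
      induction j with
      | zero => rfl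
      | succ j ih =>
        rw [mul_add, mul_one, pow_add]
        change (r ^ (2 * j)) ((r ^ 2) x) = x
        have h4 : (r ^ 2) x = x := h
        rw [h4, ih]
    obtain ⟨j, hj⟩ : Odd (3 ^ k) := Odd.pow (by decide)
    rw [hj, pow_succ'] at hk
    have h4 : r ((r ^ (2 * j)) x) = x := by
      change (r * r ^ (2 * j)) x = x
      rw [hk]; rfl
    rw [h3 j] at h4
    exact hne h4
  · exact hne (r.injective h)
  · -- totally singular
    have hQr : ∀ v, Q (r v) = Q v := mem_O.1 hr
    have h3 : polar Q x (r x) = 0 := by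
      have h4 : Q (r (r x)) = 0 := by rw [hQr, hQr, hx]
      rw [h, Q_add, hQr, hx, zero_add, zero_add] at h4
      exact h4
    have hyy : polar Q (r x) (r x) = 0 := by rw [polar_self', hQr, hx]; simp
    have hxx : polar Q x x = 0 := by rw [polar_self', hx]; simp
    have hSS : ∀ s ∈ S, s = 0 ∨ s = x ∨ s = r x ∨ s = x + r x := fun s hs =>
      four hcS hxS (hrS x hxS) hx0 hy0 hne hxy hs
    have h5 : ∀ v ∈ S, polar Q x v = 0 := by
      intro v hv
      rcases hSS v hv with h' | h' | h' | h' <;> rw [h']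
      · exact polar_zero_right Q x
      · exact hxx
      · exact h3
      · rw [polar_add_right, hxx, h3, add_zero]
    have h6 : ∀ v ∈ S, polar Q (r x) v = 0 := by
      intro v hv
      rcases hSS v hv with h' | h' | h' | h' <;> rw [h']
      · exact polar_zero_right Q (r x)
      · rw [polar_comm]; exact h3
      · exact hyy
      · rw [polar_add_right, hyy, polar_comm Q (r x) x, h3, add_zero]
    have h7 : ∀ s ∈ S, (∀ v ∈ S, polar Q s v = 0) → s ∈ R := by
      intro s hs hsv
      have h8 : s ∈ U ⊔ R := by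
        rw [hUR]
        exact mem_perp.2 fun w hw => by rw [polar_comm]; exact hsv w hw
      obtain ⟨u, hu, a, ha, hua⟩ := Submodule.mem_sup.1 h8
      have h9 : (⟨u, hu⟩ : U) = 0 := by
        apply hnd
        intro w
        change polar Q u (w : V) = 0
        have h10 : polar Q s (w : V) = 0 := by
          have h11 : (w : V) ∈ perp Q S := by rw [← hUR]; exact Submodule.mem_sup_left w.2
          exact mem_perp.1 h11 s hs
        rw [← hua, polar_add_left, horth a ha w w.2, add_zero] at h10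
        exact h10
      have h12 : u = 0 := congrArg Subtype.val h9
      rw [← hua, h12, zero_add]
      exact ha
    have hxR : x ∈ R := h7 x hxS h5
    have hyR : r x ∈ R := h7 _ (hrS x hxS) h6
    have iR := Fintype.ofFinite R
    have h8 : ({0, x, r x} : Finset V).card = 3 := by
      rw [Finset.card_insert_of_notMem, Finset.card_insert_of_notMem, Finset.card_singleton]
      · simpa using Ne.symm hne
      · simp only [Finset.mem_insert, Finset.mem_singleton, not_or]
        exact ⟨hx0.symm, hy0.symm⟩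
    have h9 : ({0, x, r x} : Finset V) ⊆ (Set.toFinset (R : Set V)) := by
      intro v hv
      rw [Set.mem_toFinset]
      simp only [Finset.mem_insert, Finset.mem_singleton] at hv
      rcases hv with rfl | rfl | rfl
      · exact R.zero_mem
      · exact hxR
      · exact hyR
    have h10 := Finset.card_le_card h9
    rw [h8, Set.toFinset_card] at h10
    have h11 : Fintype.card (R : Set V) = Nat.card R := by rw [← Nat.card_eq_fintype_card]; rfl
    omega

end fixx

/-- **(2;9)** : no factor with socle preimage containing `Ω⁻_16(2)` on a section -/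
theorem nine_two (h : Cx hI X Y 2 1 9 18) (hP : ¬ IsPlus Q) {S : Submodule F (ι → F)} {x : ι → F} (hx : Q x = 0) (hx0 : x ≠ 0)
    (hxS : x ∈ S) (hS2 : finrank F S ≤ 2) (hYS : preG eT Y ≤ subspaceStabilizer S) {U R : Submodule F (ι → F)}
    (hS : Sec Q (preG eT Y) U R) (hU : finrank F U = 16) (hR : finrank F R ≤ 1) (_hR0 : ∀ a ∈ R, Q a = 0)
    (hUR : U ⊔ R = perp Q S) (hE : E (res Q U) ≤ secG hS) : False := by
  classical
  have hfin : Finite ((ι → F) ≃ₗ[F] (ι → F)) := fin_gl
  have hF : Nat.card F = 2 := by rw [h.card]; norm_num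
  have hn : finrank F (ι → F) = 18 := by rw [h.finrank_V]
  have h3 : Nat.Prime 3 := Nat.prime_three
  have h32 : (3 : ℕ) ≠ 2 := by norm_num
  have hout : ¬ 3 ∣ Nat.card (Cfsg.Out T) := by
    rw [card_out_T eT hG.nondeg (by rw [← Nat.card_eq_fintype_card]; exact hF) hn hP]
    norm_num
  -- the point lies in `U ^ ⊥`
  have hxU : x ∈ perp Q U := by
    refine mem_perp.2 fun u hu => ?_
    have h1 : u ∈ perp Q S := by rw [← hUR]; exact Submodule.mem_sup_left hu
    rw [polar_comm]
    exact mem_perp.1 h1 x hxS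
  have hndp : Nondeg (res Q (perp Q U)) := nondeg_perp hG.nondeg hS.nd
  obtain ⟨y, hy⟩ := exists_hyp (Q := res Q (perp Q U)) (x := (⟨x, hxU⟩ : perp Q U)) hndp hx (fun h => hx0 (congrArg Subtype.val h))
  have hyp : Hyp Q x (y : ι → F) := ⟨hy.left, hy.right, hy.pair⟩
  have hUD : U = Dp Q x (y : ι → F) := by
    apply Submodule.eq_of_le_of_finrank_eq
    · intro u hu
      constructor
      · rw [polar_comm]; exact mem_perp.1 hxU u hu
      · rw [polar_comm]; exact mem_perp.1 y.2 u hu
    · have h1 := finrank_Dp hyp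
      omega
  have hfixx : ∀ r ∈ preE (eP hG eT) Y, (∃ k, r ^ 3 ^ k = 1) → r x = x := by
    rintro r hr ⟨k, hk⟩
    refine fix_x hF hx hx0 hxS hS2 (preE_le_O hr) ?_ hk hS.nd hS.orth hR hUR
    intro s hs
    have h1 := H884.OmegaGL.mem_subspaceStabilizer.1 (hYS (mem_preE_iff'.1 hr)) s hs
    rwa [MulEquiv.apply_symm_apply] at h1
  refine nine_abs (A := preE (eP hG eT) X) (B := preE (eP hG eT) Y) hF hG hn hP preE_le_E preE_le_E ?_ ?_ hyp ?_ hfixx
  · intro a ha ha3 g hg hga
    exact conj_trivial h.fac ha ha3 hg hga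
  · rw [← fac_preE' h3 h32 hG, ← fac_preE' h3 h32 hG, ← fac_T' h3 h32 hG (eP hG eT)]
    exact h.fac.val_eq hout
  · rw [← hUD]
    have hfinU : Finite (U ≃ₗ[F] U) := fin_gl
    have hGU : Good (res Q U) := LieClassical.OrthFinite.good_of_finite hS.nd (by rw [hU]; norm_num)
    rw [← fac_E hGU h3 h32]
    refine (Nat.factorization_le_iff_dvd Nat.card_pos.ne' Nat.card_pos.ne').2 ?_ 3
    rw [card_preE]
    exact (Subgroup.card_dvd_of_le hE).trans hS.card_dvd

end Cfsg.Agent.H383.Mn
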